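import Mathlib
import Groth.Prelude.Def_EGA4b
import Groth.Agent.S2930
import Groth.Agent.LocCohLib.LocalFinite
import Groth.Agent.LocCohLib.BaseChange
import Groth.Agent.LocCohLib.Vanishing
import Groth.Agent.RatliffLib.Formal
import Groth.Agent.RegLocLib.Basic
import Groth.Agent.CyclicRootLib.Regular
import Groth.Agent.EGA4Dim.Pure
import Groth.Agent.GorLib.RelCodim

/-!
# Kollár's criterion for finiteness of `H¹`
-/

set_option autoImplicit false
set_option linter.style.haveILetI false

universe u

namespace Groth.Agent.KollarLib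

open CategoryTheory TensorProduct IsLocalRing

section

variable {A : Type u} [CommRing A] [IsNoetherianRing A] (I : Ideal A) (M : Type u) [AddCommGroup M] [Module A M]

/-- The first local cohomology module. -/
abbrev H1 : Type u := ((localCohomology I 1).obj (ModuleCat.of A M) : Type u)

theorem finite_H1_baseChange {A' : Type u} [CommRing A'] [Algebra A A'] (B : Type u) [CommRing B]
    [IsNoetherianRing B] [Algebra A B] [Algebra A' B] [IsScalarTower A A' B] [Module.Flat A B]
    [Module.Finite A' (A' ⊗[A] H1 I M)] :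
    Module.Finite B (LocCoh.H (I.map (algebraMap A B)) 1 (B ⊗[A] M)) := by
  obtain ⟨e⟩ := LocCohLib.exists_baseChange B I M 1
  haveI : Module.Finite B (B ⊗[A] H1 I M) :=
    Module.Finite.equiv (AlgebraTensorModule.cancelBaseChange A A' B B (H1 I M))
  exact Module.Finite.equiv e

variable [Module.Finite A M]

theorem notMem_ass_of_finite_H1 {B : Type u} [CommRing B] [IsNoetherianRing B] {R : Type u} [CommRing R]
    [IsRegularRing R] (π : R →+* B) (hπ : Function.Surjective π) (J : Ideal B) (N : Type u) [AddCommGroup N]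
    [Module B N] [Module.Finite B N] (h : Module.Finite B (LocCoh.H J 1 N)) (p q : PrimeSpectrum B)
    (hp : ¬ J ≤ p.asIdeal) (hq : J ≤ q.asIdeal) (hpq : p ⋖ q) : p.asIdeal ∉ associatedPrimes B N := by
  have hall : ∀ i : ℕ, i ≤ 1 → Module.Finite B (LocCoh.H J i N) := fun i hi => by
    rcases Nat.le_one_iff_eq_zero_or_eq_one.1 hi with rfl | rfl
    · exact LocCohLib.finite_H0 J (ModuleCat.of B N)
    · exact h
  exact (EGA4Dim.notMem_associatedPrimes_iff_one_le_depth p.asIdeal).2
    (by simpa using (S2930.result R B π hπ J N 1).1 hall p q hp hq hpq)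

theorem two_le_dim_not_covBy_closedPoint {B : Type u} [CommRing B] [IsLocalRing B] (P : PrimeSpectrum B)
    (h : (2 : WithBot ℕ∞) ≤ ringKrullDim (B ⧸ P.asIdeal)) : ¬ P ⋖ closedPoint B := by
  rintro ⟨hlt, hno⟩
  rw [ringKrullDim, Order.krullDim_eq_of_orderIso (GorLib.quotIciIso P),
    show (2 : WithBot ℕ∞) = ((2 : ℕ) : WithBot ℕ∞) from rfl, Order.le_krullDim_iff] at h
  obtain ⟨l, hl⟩ := h
  have h01 : l ⟨0, by omega⟩ < l ⟨1, by omega⟩ := l.strictMono (Fin.lt_def.2 (by simp))
  have h12 : l ⟨1, by omega⟩ < l ⟨2, by omega⟩ := l.strictMono (Fin.lt_def.2 (by simp))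
  exact hno (lt_of_le_of_lt (l ⟨0, by omega⟩).2 h01)
    (lt_of_lt_of_le (show (l ⟨1, by omega⟩).1 < (l ⟨2, by omega⟩).1 from h12)
      (IsLocalRing.le_maximalIdeal (l ⟨2, by omega⟩).1.2.ne_top))

end

section

variable {A : Type u} [CommRing A] [IsNoetherianRing A] (I : Ideal A) (M : Type u) [AddCommGroup M] [Module A M]
  [Module.Finite A M]

/-- Kollár's condition at one prime. -/
def KollarAt (q : Ideal A) [q.IsPrime] : Prop :=
  ∀ P ∈ associatedPrimes (EGA4.Cpl (Localization.AtPrime q)) (EGA4.Cpl (Localization.AtPrime q) ⊗[A] M),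
    ¬ I.map (algebraMap A (EGA4.Cpl (Localization.AtPrime q))) ≤ P →
      (2 : WithBot ℕ∞) ≤ ringKrullDim (EGA4.Cpl (Localization.AtPrime q) ⧸ P)

theorem finite_local_of_kollar (h : ∀ (q : Ideal A) [q.IsPrime], I ≤ q → KollarAt I M q) :
    ∀ (q : Ideal A) [q.IsPrime],
      Module.Finite (Localization.AtPrime q) (Localization.AtPrime q ⊗[A] H1 I M) := by
  suffices ∀ (n : ℕ) (q : Ideal A) [q.IsPrime], q.height < n →
      Module.Finite (Localization.AtPrime q) (Localization.AtPrime q ⊗[A] H1 I M) by
    intro q hq
    obtain ⟨m, hm⟩ := ENat.ne_top_iff_exists.mp (Ideal.height_ne_top (I := q) hq.ne_top)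
    exact this (m + 1) q (by rw [← hm]; exact_mod_cast Nat.lt_succ_self m)
  intro n
  induction n with
  | zero => intro q _ hn; simp at hn
  | succ n ih =>
    intro q _ hn
    let A' := Localization.AtPrime q
    haveI : IsNoetherianRing A' := IsLocalization.isNoetherianRing q.primeCompl A' inferInstance
    by_cases hIq : I ≤ q
    swap
    · obtain ⟨e⟩ := LocCohLib.exists_baseChange A' I M 1
      obtain ⟨x, hx, hxq⟩ := SetLike.not_le_iff_exists.1 hIq
      have htop : I.map (algebraMap A A') = ⊤ := Ideal.eq_top_of_isUnit_mem _ (Ideal.mem_map_of_mem _ hx)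
        (IsLocalization.map_units A' (⟨x, hxq⟩ : q.primeCompl))
      rw [htop] at e
      haveI := LocCohLib.subsingleton_top (R := A') 1 (ModuleCat.of A' (A' ⊗[A] M))
      haveI : Subsingleton (A' ⊗[A] H1 I M) := e.toEquiv.subsingleton
      infer_instance
    let B := EGA4.Cpl A'
    obtain ⟨_, hN, hC, hloc, hmax⟩ := RatliffLib.compl_facts A'
    haveI := hN
    haveI := hC
    haveI := hloc
    haveI : Module.Flat A' B := AdicCompletion.flat_of_isNoetherian _
    haveI : Module.FaithfullyFlat A' B := Module.FaithfullyFlat.of_flat_of_isLocalHom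
    haveI : Module.Flat A B := Module.Flat.trans A A' B
    obtain ⟨R, _, _, π, hπ⟩ := RatliffLib.exists_regular_surjective B
    haveI := RegLocLib.isRegularRing_of_isRegularLocalRing R
    let J : Ideal B := I.map (algebraMap A B)
    let N := B ⊗[A] M
    suffices hfin : Module.Finite B (LocCoh.H J 1 N) by
      obtain ⟨e⟩ := LocCohLib.exists_baseChange B I M 1
      haveI : Module.Finite B (B ⊗[A] H1 I M) := @Module.Finite.equiv _ _ _ _ _ _ _ _ hfin e.symm
      haveI : Module.Finite B (B ⊗[A'] (A' ⊗[A] H1 I M)) :=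
        Module.Finite.equiv (AlgebraTensorModule.cancelBaseChange A A' B B (H1 I M)).symm
      exact Module.Finite.of_finite_tensorProduct_of_faithfullyFlat B
    refine (S2930.result R B π hπ J N 1).2 (fun P Q hP hQ hPQ => ?_) 1 le_rfl
    rw [Nat.cast_one, ← EGA4Dim.notMem_associatedPrimes_iff_one_le_depth]
    intro hass
    have hdim := h q hIq P.asIdeal hass hP
    let q₀ : Ideal A := Q.asIdeal.comap (algebraMap A B)
    have hq₀ : q₀ ≤ q := fun a ha => by
      by_contra haq
      exact Q.2.ne_top (Ideal.eq_top_of_isUnit_mem _ ha (IsScalarTower.algebraMap_apply A A' B a ▸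
        (IsLocalization.map_units A' (⟨a, haq⟩ : q.primeCompl)).map (algebraMap A' B)))
    by_cases heq : q₀ = q
    · have hQm : Q = closedPoint B := PrimeSpectrum.ext (le_antisymm (IsLocalRing.le_maximalIdeal Q.2.ne_top) (by
        show maximalIdeal B ≤ Q.asIdeal
        refine hmax.le.trans ((congrArg (Ideal.map (algebraMap A' B))
          (Localization.AtPrime.map_eq_maximalIdeal (I := q)).symm).trans_le ?_)
        rw [Ideal.map_map, ← IsScalarTower.algebraMap_eq, Ideal.map_le_iff_le_comap]
        exact heq.ge))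
      exact two_le_dim_not_covBy_closedPoint P hdim (hQm ▸ hPQ)
    · have hlt : q₀.height < n := by
        have h1 : q₀.height < q.height := Ideal.height_strict_mono_of_isPrime (lt_of_le_of_ne hq₀ heq)
        obtain ⟨m, hm⟩ := ENat.ne_top_iff_exists.mp (Ideal.height_ne_top (I := q) (inferInstance : q.IsPrime).ne_top)
        rw [← hm] at hn h1
        have h2 : m < n + 1 := by exact_mod_cast hn
        exact lt_of_lt_of_le h1 (by exact_mod_cast Nat.lt_succ_iff.1 h2)
      haveI := ih q₀ hlt
      let B' := Localization.AtPrime Q.asIdeal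
      haveI : IsNoetherianRing B' := IsLocalization.isNoetherianRing Q.asIdeal.primeCompl B' inferInstance
      let f : Localization.AtPrime q₀ →+* B' := Localization.localRingHom q₀ Q.asIdeal (algebraMap A B) rfl
      letI : Algebra (Localization.AtPrime q₀) B' := f.toAlgebra
      haveI : IsScalarTower A (Localization.AtPrime q₀) B' := IsScalarTower.of_algebraMap_eq fun a => by
        rw [RingHom.algebraMap_toAlgebra, Localization.localRingHom_to_map, ← IsScalarTower.algebraMap_apply]
      haveI : Module.Flat A B' := Module.Flat.trans A B B'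
      have hfin' := finite_H1_baseChange I M (A' := Localization.AtPrime q₀) B'
      -- `B'` is a quotient of a regular ring
      haveI := CyclicRootLib.isRegularRing_of_isLocalization (Q.asIdeal.comap π).primeCompl
        (Localization.AtPrime (Q.asIdeal.comap π))
      have hπ' : Function.Surjective (Localization.localRingHom (Q.asIdeal.comap π) Q.asIdeal π rfl) := fun z => by
        obtain ⟨b, s, rfl⟩ := IsLocalization.exists_mk'_eq Q.asIdeal.primeCompl z
        obtain ⟨b, rfl⟩ := hπ b
        obtain ⟨t, ht⟩ := hπ s.1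
        refine ⟨IsLocalization.mk' _ b (⟨t, fun h => s.2 (ht ▸ h)⟩ : (Q.asIdeal.comap π).primeCompl), ?_⟩
        rw [Localization.localRingHom_mk']
        congr 1
        exact Subtype.ext ht
      let P' : PrimeSpectrum B' := ⟨P.asIdeal.map (algebraMap B B'),
        IsLocalization.isPrime_of_isPrime_disjoint Q.asIdeal.primeCompl B' P.asIdeal P.2
          (Set.disjoint_left.2 fun x hx hxP => hx (hPQ.1.le hxP))⟩
      let Q' : PrimeSpectrum B' := closedPoint B'
      have hP'c : P'.asIdeal.comap (algebraMap B B') = P.asIdeal :=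
        IsLocalization.under_map_of_isPrime_disjoint Q.asIdeal.primeCompl B' P.2
          (Set.disjoint_left.2 fun x hx hxP => hx (hPQ.1.le hxP))
      have hcov : P' ⋖ Q' := by
        refine ⟨lt_of_le_of_ne (IsLocalRing.le_maximalIdeal P'.2.ne_top) fun he => ?_, fun C hC1 hC2 => ?_⟩
        · refine hPQ.1.ne (PrimeSpectrum.ext ?_)
          rw [← hP'c, show P'.asIdeal = maximalIdeal B' from congrArg PrimeSpectrum.asIdeal he]
          exact IsLocalization.AtPrime.under_maximalIdeal B' Q.asIdeal
        · let C₀ : PrimeSpectrum B := PrimeSpectrum.comap (algebraMap B B') C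
          have e1 : P < C₀ := by
            refine lt_of_le_not_ge (hP'c.ge.trans (Ideal.comap_mono hC1.le)) fun hle => hC1.not_ge ?_
            show C.asIdeal ≤ P'.asIdeal
            rw [← IsLocalization.map_under Q.asIdeal.primeCompl B' C.asIdeal]
            exact Ideal.map_mono hle
          have e2 : C₀ < Q := by
            refine lt_of_le_not_ge ?_ fun hle => hC2.not_ge ?_
            · exact (Ideal.comap_mono hC2.le).trans (IsLocalization.AtPrime.under_maximalIdeal B' Q.asIdeal).le
            · exact (Localization.AtPrime.map_eq_maximalIdeal (I := Q.asIdeal)).ge.trans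
                (Ideal.map_le_iff_le_comap.2 hle)
          exact hPQ.2 e1 e2
      have hP'J : ¬ I.map (algebraMap A B') ≤ P'.asIdeal := fun hle => hP (by
        refine le_trans ?_ hP'c.le
        rw [← Ideal.map_le_iff_le_comap, Ideal.map_map, ← IsScalarTower.algebraMap_eq]
        exact hle)
      have hQ'J : I.map (algebraMap A B') ≤ Q'.asIdeal := by
        show _ ≤ maximalIdeal B'
        rw [IsScalarTower.algebraMap_eq A B B', ← Ideal.map_map]
        exact (Ideal.map_mono hQ).trans (Localization.AtPrime.map_eq_maximalIdeal (I := Q.asIdeal)).le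
      refine notMem_ass_of_finite_H1 _ hπ' (I.map (algebraMap A B')) (B' ⊗[A] M) hfin' P' Q' hP'J hQ'J hcov ?_
      refine Module.associatedPrimes.mem_associatedPrimes_of_comap_mem_associatedPrimes_of_isLocalizedModule
        Q.asIdeal.primeCompl (AlgebraTensorModule.rTensor A M (Algebra.linearMap B B')) P'.asIdeal ?_
      rwa [hP'c]

/-- Kollár's criterion, sufficiency. -/
theorem finite_H1_of_kollar (h : ∀ (q : Ideal A) [q.IsPrime], I ≤ q → KollarAt I M q) :
    Module.Finite A (LocCoh.H I 1 M) := by
  refine LocCohLib.finite_H_of_local I 1 M (fun p _ i hi => ?_) 1 le_rfl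
  rcases Nat.le_one_iff_eq_zero_or_eq_one.1 hi with rfl | rfl
  · haveI : Module.Finite A (LocCoh.H I 0 M) := LocCohLib.finite_H0 I (ModuleCat.of A M)
    exact Module.Finite.of_isLocalizedModule p.primeCompl (LocalizedModule.mkLinearMap p.primeCompl _)
  · haveI := finite_local_of_kollar I M h p
    exact Module.Finite.equiv (LocalizedModule.equivTensorProduct p.primeCompl (H1 I M)).symm

end

end Groth.Agent.KollarLib
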