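import Mathlib
import Groth.Agent.KollarLib.Criterion
import Groth.Agent.CMCat.ComplQuot
import Groth.Agent.S1763
import Groth.Agent.SerreLib.R0S1

/-!
# Kollár's criterion for quotients by primes
-/

set_option autoImplicit false
set_option linter.style.haveILetI false

universe u

namespace Groth.Agent.KollarLib

open TensorProduct IsLocalRing

theorem ass_map {B C : Type u} [CommRing B] [CommRing C] [IsNoetherianRing B] [IsNoetherianRing C] (f : B →+* C)
    (hf : Function.Surjective f) (K : Ideal B) (hK : RingHom.ker f = K) {P : Ideal B}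
    (hP : P ∈ associatedPrimes B (B ⧸ K)) :
    P.map f ∈ associatedPrimes C C ∧ K ≤ P ∧ ringKrullDim (B ⧸ P) = ringKrullDim (C ⧸ P.map f) := by
  subst hK
  obtain ⟨hPp, x, hx⟩ := isAssociatedPrime_iff.1 hP
  obtain ⟨x, rfl⟩ := Ideal.Quotient.mk_surjective x
  have hmem : ∀ b, b ∈ P ↔ f b * f x = 0 := fun b => by
    rw [hx, Submodule.mem_colon_singleton, Submodule.mem_bot, ← map_mul, ← RingHom.mem_ker,
      ← Ideal.Quotient.eq_zero_iff_mem]
    rfl
  have hle : RingHom.ker f ≤ P := fun b hb => (hmem b).2 (by rw [RingHom.mem_ker.1 hb, zero_mul])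
  haveI := hPp
  have hprime : (P.map f).IsPrime := Ideal.map_isPrime_of_surjective hf hle
  have hcm : (P.map f).comap f = P := by
    rw [Ideal.comap_map_of_surjective _ hf, ← RingHom.ker_eq_comap_bot, sup_eq_left.2 hle]
  refine ⟨isAssociatedPrime_iff.2 ⟨hprime, f x, ?_⟩, hle, ?_⟩
  · ext c
    obtain ⟨b, rfl⟩ := hf c
    rw [Submodule.mem_colon_singleton, Submodule.mem_bot, smul_eq_mul, ← hmem, ← Ideal.mem_comap, hcm]
  · let g : B →+* C ⧸ P.map f := (Ideal.Quotient.mk _).comp f
    have hg : RingHom.ker g = P := by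
      rw [← RingHom.comap_ker, Ideal.mk_ker, hcm]
    exact ringKrullDim_eq_of_ringEquiv ((Ideal.quotEquivOfEq hg.symm).trans
      (RingHom.quotientKerEquivOfSurjective (f := g) (Ideal.Quotient.mk_surjective.comp hf)))

theorem comap_eq_of_ass {R B : Type u} [CommRing R] [CommRing B] [Algebra R B] [Module.Flat R B]
    [IsNoetherianRing B] (p : Ideal R) [p.IsPrime] {P : Ideal B}
    (hP : P ∈ associatedPrimes B (B ⧸ p.map (algebraMap R B))) : P.comap (algebraMap R B) = p := by
  obtain ⟨hPp, x, hx⟩ := isAssociatedPrime_iff.1 hP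
  refine le_antisymm (fun r hr => ?_) fun r hr => ?_
  · by_contra hrp
    have hinj : Function.Injective (LinearMap.lsmul R (R ⧸ p) r) := by
      refine (injective_iff_map_eq_zero _).2 fun y hy => ?_
      obtain ⟨y, rfl⟩ := Ideal.Quotient.mk_surjective y
      rw [LinearMap.lsmul_apply, Algebra.smul_def, Ideal.Quotient.algebraMap_eq, ← map_mul,
        Ideal.Quotient.eq_zero_iff_mem] at hy
      exact Ideal.Quotient.eq_zero_iff_mem.2 ((Ideal.IsPrime.mem_or_mem inferInstance hy).resolve_left hrp)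
    have h2 := Module.Flat.lTensor_preserves_injective_linearMap (M := B) _ hinj
    let e := Algebra.TensorProduct.quotIdealMapEquivTensorQuot B p
    have h3 : (LinearMap.lsmul R (R ⧸ p) r).lTensor B (e x) = 0 := by
      have : ∀ z : B ⊗[R] (R ⧸ p), (LinearMap.lsmul R (R ⧸ p) r).lTensor B z = algebraMap R B r • z := fun z => by
        induction z using TensorProduct.induction_on with
        | zero => simp
        | tmul b y => rw [LinearMap.lTensor_tmul, LinearMap.lsmul_apply, TensorProduct.tmul_smul, algebraMap_smul]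
        | add a b ha hb => rw [map_add, ha, hb, smul_add]
      have hr' : algebraMap R B r • x = 0 := by
        rw [Ideal.mem_comap, hx, Submodule.mem_colon_singleton, Submodule.mem_bot] at hr
        exact hr
      rw [this, ← map_smul, hr', map_zero]
    have hx0 : x = 0 := e.injective ((h2 (h3.trans (map_zero _).symm)).trans (map_zero _).symm)
    exact hPp.ne_top ((Ideal.eq_top_iff_one _).2 (by rw [hx, Submodule.mem_colon_singleton, Submodule.mem_bot, one_smul, hx0]))
  · rw [Ideal.mem_comap, hx, Submodule.mem_colon_singleton, Submodule.mem_bot]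
    obtain ⟨x, rfl⟩ := Ideal.Quotient.mk_surjective x
    rw [Algebra.smul_def, Ideal.Quotient.algebraMap_eq, ← map_mul, Ideal.Quotient.eq_zero_iff_mem]
    exact Ideal.mul_mem_right _ _ (Ideal.mem_map_of_mem _ hr)

/-- If the fibre at `p` satisfies `(S₁)`, associated primes of `B/pB` are minimal. -/
theorem minimal_of_ass_of_fibre {R B : Type u} [CommRing R] [CommRing B] [Algebra R B] [Module.Flat R B]
    [IsNoetherianRing B] (p : Ideal R) [p.IsPrime] (hfib : LocCoh.HasSk 1 (p.Fiber B) (p.Fiber B)) {P : Ideal B}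
    (hP : P ∈ associatedPrimes B (B ⧸ p.map (algebraMap R B))) : P ∈ (p.map (algebraMap R B)).minimalPrimes := by
  let K := p.map (algebraMap R B)
  have hc := comap_eq_of_ass p hP
  obtain ⟨hPp, x, hx⟩ := isAssociatedPrime_iff.1 hP
  obtain ⟨x, rfl⟩ := Ideal.Quotient.mk_surjective x
  have hmem : ∀ b, b ∈ P ↔ b * x ∈ K := fun b => by
    rw [hx, Submodule.mem_colon_singleton, Submodule.mem_bot, ← Ideal.Quotient.eq_zero_iff_mem]
    rfl
  have hKP : K ≤ P := fun b hb => (hmem b).2 (Ideal.mul_mem_right _ _ hb)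
  haveI := hPp
  letI : Algebra B (p.Fiber B) := Algebra.TensorProduct.rightAlgebra
  have hker : ∀ c : B, algebraMap B (p.Fiber B) c = 0 ↔ ∃ a ∉ p, algebraMap R B a * c ∈ K := fun c => by
    rw [← (Ideal.Fiber.algEquivAux₁ p (S := B)).injective.eq_iff, map_zero, AlgEquiv.commutes,
      IsScalarTower.algebraMap_apply B (Localization (Algebra.algebraMapSubmonoid B p.primeCompl)),
      Ideal.Quotient.algebraMap_eq, Ideal.Quotient.eq_zero_iff_mem,
      IsLocalization.algebraMap_mem_map_algebraMap_iff (Algebra.algebraMapSubmonoid B p.primeCompl)]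
    constructor
    · rintro ⟨_, ⟨a, ha, rfl⟩, h⟩; exact ⟨a, ha, h⟩
    · rintro ⟨a, ha, h⟩; exact ⟨_, ⟨a, ha, rfl⟩, h⟩
  haveI : IsNoetherianRing (p.Fiber B) := by
    haveI : IsNoetherianRing (Localization (Algebra.algebraMapSubmonoid B p.primeCompl)) :=
      IsLocalization.isNoetherianRing (Algebra.algebraMapSubmonoid B p.primeCompl) _ inferInstance
    exact isNoetherianRing_of_ringEquiv _ (Ideal.Fiber.algEquivAux₁ p (S := B)).symm.toRingEquiv
  let ι := PrimeSpectrum.primesOverOrderIsoFiber R B p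
  have hcomap : ∀ (W : p.primesOver B) (b : B), algebraMap B (p.Fiber B) b ∈ (ι W).asIdeal ↔ b ∈ W.1 := fun W b => by
    conv_rhs => rw [← ι.symm_apply_apply W, PrimeSpectrum.coe_primesOverOrderIsoFiber_symm_apply]
    rfl
  have hPover : P ∈ p.primesOver B := ⟨hPp, ⟨hc.symm⟩⟩
  let Q := ι ⟨P, hPover⟩
  have hQ : Q.asIdeal ∈ associatedPrimes (p.Fiber B) (p.Fiber B) := by
    refine isAssociatedPrime_iff.2 ⟨Q.2, algebraMap B (p.Fiber B) x, ?_⟩
    ext t
    rw [Submodule.mem_colon_singleton, Submodule.mem_bot, smul_eq_mul]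
    obtain ⟨r, hr, s, hs⟩ := Ideal.Fiber.exists_smul_eq_one_tmul p t
    have hu : IsUnit (algebraMap R (p.Fiber B) r) := by
      rw [IsScalarTower.algebraMap_apply R p.ResidueField (p.Fiber B)]
      exact (IsUnit.mk0 _ (by rwa [Ne, Ideal.algebraMap_residueField_eq_zero])).map _
    have hs' : algebraMap R (p.Fiber B) r * t = algebraMap B (p.Fiber B) s := by
      rw [← Algebra.smul_def, hs]; rfl
    have e1 : t ∈ Q.asIdeal ↔ s ∈ P := by
      rw [← Ideal.unit_mul_mem_iff_mem _ hu, hs', hcomap]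
    rw [e1, ← hu.mul_right_eq_zero (b := t * algebraMap B (p.Fiber B) x), ← mul_assoc, hs', ← map_mul, hker, hmem]
    refine ⟨fun h => ⟨1, fun h1 => (inferInstance : p.IsPrime).ne_top ((Ideal.eq_top_iff_one _).2 h1), by simpa using h⟩, ?_⟩
    rintro ⟨a, ha, h⟩
    rw [← mul_assoc, ← hmem] at h
    refine (hmem s).1 ((hPp.mem_or_mem h).resolve_left fun haP => ha ?_)
    rw [← hc]; exact haP
  refine ⟨⟨hPp, hKP⟩, fun P'' ⟨hP''p, hK''⟩ hle => ?_⟩
  haveI := hP''p
  have hc'' : P''.comap (algebraMap R B) = p :=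
    le_antisymm (hc ▸ Ideal.comap_mono hle) (Ideal.map_le_iff_le_comap.1 hK'')
  let W : p.primesOver B := ⟨P'', hP''p, ⟨hc''.symm⟩⟩
  have hQW : ι W ≤ Q := ι.monotone (show W ≤ ⟨P, hPover⟩ from hle)
  haveI := Q.2
  have h0 := SerreLib.height_eq_zero_of_hasSk_one hfib hQ
  rw [Ideal.height_eq_zero_iff] at h0
  have heq : Q ≤ ι W := h0.2 ⟨(ι W).2, bot_le⟩ hQW
  exact (ι.le_iff_le.1 heq : (⟨P, hPover⟩ : p.primesOver B) ≤ W)

/-- Reduction of Kollár's criterion to the quotients by associated primes. -/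
theorem finite_H1_of_quotients {A : Type u} [CommRing A] [IsNoetherianRing A] (I : Ideal A) (M : Type u)
    [AddCommGroup M] [Module A M] [Module.Finite A M]
    (h : ∀ p ∈ associatedPrimes A M, ¬ I ≤ p → ∀ (q : Ideal A) [q.IsPrime], I ≤ q → p ≤ q →
      ∀ P ∈ associatedPrimes (EGA4.Cpl (Localization.AtPrime q))
        (EGA4.Cpl (Localization.AtPrime q) ⧸
          (p.map (algebraMap A (Localization.AtPrime q))).map (algebraMap (Localization.AtPrime q) (EGA4.Cpl (Localization.AtPrime q)))),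
        (2 : WithBot ℕ∞) ≤ ringKrullDim (EGA4.Cpl (Localization.AtPrime q) ⧸ P)) :
    Module.Finite A (LocCoh.H I 1 M) := by
  refine (S1763.result A I M).2 fun p hp hIp => finite_H1_of_kollar I (A ⧸ p) fun q _ hIq P hP _ => ?_
  have hmap : (p.map (algebraMap A (Localization.AtPrime q))).map (algebraMap (Localization.AtPrime q)
      (EGA4.Cpl (Localization.AtPrime q))) = p.map (algebraMap A (EGA4.Cpl (Localization.AtPrime q))) := by
    rw [Ideal.map_map, ← IsScalarTower.algebraMap_eq]
  rw [← LinearEquiv.AssociatedPrimes.eq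
    (Algebra.TensorProduct.quotIdealMapEquivTensorQuot (EGA4.Cpl (Localization.AtPrime q)) p).toLinearEquiv,
    ← LinearEquiv.AssociatedPrimes.eq (Submodule.quotEquivOfEq _ _ hmap)] at hP
  refine h p hp hIp q hIq ?_ P hP
  by_contra hpq
  obtain ⟨a, ha, haq⟩ := SetLike.not_le_iff_exists.1 hpq
  obtain ⟨hPp, x, hx⟩ := isAssociatedPrime_iff.1 hP
  refine hPp.ne_top (Ideal.eq_top_of_isUnit_mem _ ?_
    ((IsLocalization.map_units (Localization.AtPrime q) (⟨a, haq⟩ : q.primeCompl)).map
      (algebraMap (Localization.AtPrime q) (EGA4.Cpl (Localization.AtPrime q)))))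
  obtain ⟨x, rfl⟩ := Ideal.Quotient.mk_surjective x
  rw [hx, Submodule.mem_colon_singleton, Submodule.mem_bot, Algebra.smul_def, Ideal.Quotient.algebraMap_eq, ← map_mul,
    Ideal.Quotient.eq_zero_iff_mem]
  exact Ideal.mul_mem_right _ _ (Ideal.mem_map_of_mem _ (Ideal.mem_map_of_mem _ ha))

end Groth.Agent.KollarLib
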